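import Mathlib
import Cfsg.Agent.GT.TransferPNilp
import Cfsg.Agent.GT.TransferEval
import Cfsg.Agent.GT.MinNormal
import Cfsg.Agent.GT.PGroupBasic
import Cfsg.Agent.FG.ClassCount

/-! Groups in which `N(P)` controls the fusion of elements of the Sylow `p`-subgroup `P` and
elements of order `p` have `p`-nilpotent centralizers: basic local structure. -/

set_option autoImplicit false

namespace Cfsg.Agent.GSz

open Cfsg Cfsg.Agent.GT Cfsg.Agent.GT.Tr Subgroup

variable {G : Type*} [Group G] {p : ℕ}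

/-- `Ω₁(Z(P))`. -/
def Vz (p : ℕ) (P : Subgroup G) : Subgroup G where
  carrier := {z | z ∈ P ∧ z ^ p = 1 ∧ ∀ y ∈ P, y * z = z * y}
  one_mem' := ⟨one_mem _, one_pow _, fun y _ => by rw [mul_one, one_mul]⟩
  mul_mem' := by
    rintro a b ⟨ha, ha1, ha2⟩ ⟨hb, hb1, hb2⟩
    refine ⟨mul_mem ha hb, ?_, fun y hy => ?_⟩
    · rw [Commute.mul_pow (hb2 a ha), ha1, hb1, one_mul]
    · rw [← mul_assoc, ha2 y hy, mul_assoc, hb2 y hy, mul_assoc]
  inv_mem' := by
    rintro a ⟨ha, ha1, ha2⟩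
    exact ⟨inv_mem ha, by rw [inv_pow, ha1, inv_one], fun y hy =>
      (show Commute y a from ha2 y hy).inv_right⟩

theorem mem_Vz {P : Subgroup G} {z : G} :
    z ∈ Vz p P ↔ z ∈ P ∧ z ^ p = 1 ∧ ∀ y ∈ P, y * z = z * y := Iff.rfl

theorem Vz_le (P : Subgroup G) : Vz p P ≤ P := fun _ h => h.1

theorem Vz_conj {P : Subgroup G} {n z : G} (hn : n ∈ normalizer (P : Set G))
    (hz : z ∈ Vz p P) : n * z * n⁻¹ ∈ Vz p P := by
  refine ⟨conj_mem_of_mem_normalizer hn hz.1, by rw [conj_pow, hz.2.1]; simp, fun y hy => ?_⟩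
  have := hz.2.2 _ (inv_conj_mem_of_mem_normalizer hn hy)
  calc y * (n * z * n⁻¹) = n * (n⁻¹ * y * n * z) * n⁻¹ := by group
    _ = n * z * n⁻¹ * y := by rw [this]; group

theorem orderOf_of_mem_Vz [Fact p.Prime] {P : Subgroup G} {z : G} (hz : z ∈ Vz p P)
    (h1 : z ≠ 1) : orderOf z = p := orderOf_eq_prime hz.2.1 h1

/-- Elements of order `p` have `p`-nilpotent centralizers. -/
def Nil (p : ℕ) (G : Type*) [Group G] : Prop :=
  ∀ x : G, orderOf x = p → HasNormalPComplement p (centralizer ({x} : Set G))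

structure Hyp (P : Sylow p G) : Prop where
  fus : ∀ x ∈ (P : Subgroup G), ∀ g : G, g * x * g⁻¹ ∈ (P : Subgroup G) →
    ∃ n ∈ normalizer ((P : Subgroup G) : Set G), n * x * n⁻¹ = g * x * g⁻¹
  nil : Nil p G

theorem Hyp.sc {P : Sylow p G} (h : Hyp P) {z g : G} (hz : z ∈ Vz p (P : Subgroup G))
    (hg : g * z * g⁻¹ ∈ (P : Subgroup G)) : g * z * g⁻¹ ∈ Vz p (P : Subgroup G) := by
  obtain ⟨n, hn, e⟩ := h.fus z hz.1 g hg
  exact e ▸ Vz_conj hn hz

variable [Finite G] [Fact p.Prime]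

theorem exists_pow_orderOf {A : Subgroup G} (hA : IsPGroup p A) {u : G} (hu : u ∈ A)
    (h1 : u ≠ 1) : ∃ k : ℕ, orderOf (u ^ k) = p := by
  obtain ⟨k, hk⟩ := (IsPGroup.iff_orderOf.1 hA) ⟨u, hu⟩
  rw [orderOf_mk] at hk
  have : p ∣ orderOf u := by
    rw [hk]
    exact dvd_pow_self _ (by rintro rfl; exact h1 (orderOf_eq_one_iff.1 hk))
  exact ⟨_, orderOf_pow_orderOf_div (orderOf_pos u).ne' this⟩

theorem exists_mem_Vz {P N : Subgroup G} (hP : IsPGroup p P) (hn : P ≤ normalizer (N : Set G))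
    (h : P ⊓ N ≠ ⊥) : ∃ z ∈ Vz p P, z ∈ N ∧ z ≠ 1 := by
  have hn' := PG.le_normalizer_inf (le_normalizer (H := P)) hn
  obtain ⟨k, hk⟩ := PG.exists_iterCommutator_eq_bot_of_isPGroup (hP.to_le inf_le_left) hP hn'
  obtain ⟨⟨u, ⟨hu, huN⟩, hc⟩, h1⟩ := ne_bot_iff_exists_ne_one.1
    (PG.inf_centralizer_ne_bot_of_iterCommutator hk hn' h)
  obtain ⟨j, hj⟩ := exists_pow_orderOf hP hu fun e => h1 (Subtype.ext e)
  refine ⟨u ^ j, ⟨pow_mem hu _, hj ▸ pow_orderOf_eq_one _, fun y hy => ?_⟩, pow_mem huN _,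
    fun e => ?_⟩
  · exact (show Commute y u from mem_centralizer_iff.1 hc y hy).pow_right j
  · rw [e, orderOf_one] at hj
    exact (Fact.out : p.Prime).one_lt.ne hj

theorem Nil.cent (h : Nil p G) {A : Subgroup G} (hA : IsPGroup p A) {u : G} (hu : u ∈ A)
    (h1 : u ≠ 1) : HasNormalPComplement p (centralizer ({u} : Set G)) := by
  obtain ⟨k, hk⟩ := exists_pow_orderOf hA hu h1
  exact (h _ hk).of_le fun g hg => mem_centralizer_singleton_iff.2
    ((show Commute g u from mem_centralizer_singleton_iff.1 hg).pow_right k)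

theorem mul_cop {K : Subgroup G} (hK : HasNormalPComplement p K) {a b : G} (ha : a ∈ K)
    (hb : b ∈ K) (ha' : (orderOf a).Coprime p) (hb' : (orderOf b).Coprime p) :
    (orderOf (a * b)).Coprime p := by
  have := hasNormalPComplement_iff_mul_coprime.1 hK ⟨a, ha⟩ ⟨b, hb⟩ (by rwa [orderOf_mk])
    (by rwa [orderOf_mk])
  rwa [← orderOf_coe] at this

theorem comm_of {K Q : Subgroup G} (hK : HasNormalPComplement p K) (hQ : IsPGroup p Q) {a b : G}
    (ha : a ∈ K) (hb : b ∈ K) (ha' : (orderOf a).Coprime p) (h : a * b * a⁻¹ * b⁻¹ ∈ Q) :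
    a * b = b * a := by
  have h1 := mul_cop hK ha (mul_mem (mul_mem hb (inv_mem ha)) (inv_mem hb)) ha' (by
    rwa [← MulAut.conj_apply, MulEquiv.orderOf_eq, orderOf_inv])
  have h2 := eq_one_of_coprime_of_isPGroup hQ h (by simpa only [mul_assoc] using h1)
  rwa [mul_inv_eq_one, mul_inv_eq_iff_eq_mul] at h2

theorem comm_of_norm {K Q : Subgroup G} (hK : HasNormalPComplement p K) (hQ : IsPGroup p Q)
    {a b : G} (ha : a ∈ K) (hb : b ∈ K) (ha' : (orderOf a).Coprime p)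
    (hn : a ∈ normalizer (Q : Set G)) (hbQ : b ∈ Q) : a * b = b * a :=
  comm_of hK hQ ha hb ha' (mul_mem (conj_mem_of_mem_normalizer hn hbQ) (inv_mem hbQ))

theorem decomp {K S : Subgroup G} (hK : HasNormalPComplement p K) (hS : IsPGroup p S)
    (hi : ¬ p ∣ S.relIndex K) {d : G} (hd : d ∈ K) :
    ∃ y ∈ S, ∃ l ∈ K, (orderOf l).Coprime p ∧ d = y * l := by
  obtain ⟨n, hn, u, hu, e⟩ := exists_pResidual_mul_sylow (sylowOfRel hS hi) (⟨d, hd⟩ : K)⁻¹
  have hn' := hK.mem_pResidual_iff.1 hn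
  refine ⟨(u : G)⁻¹, inv_mem hu, (n : G)⁻¹, inv_mem n.2, by rwa [orderOf_inv, orderOf_coe], ?_⟩
  rw [← mul_inv_rev, ← Subgroup.coe_mul, ← e]
  simp

theorem not_dvd_relIndex (P : Sylow p G) (K : Subgroup G) (h : (P : Subgroup G) ≤ K) :
    ¬ p ∣ (P : Subgroup G).relIndex K := fun e =>
  P.not_dvd_index (e.trans (relIndex_dvd_index_of_le h))

omit [Finite G] [Fact p.Prime] in
theorem mem_of_norm (P : Sylow p G) {a : G} (ha : a ∈ normalizer ((P : Subgroup G) : Set G))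
    (hp : ∃ k, orderOf a = p ^ k) : a ∈ (P : Subgroup G) := by
  have h1 : IsPGroup p (zpowers a) := by
    obtain ⟨k, hk⟩ := hp
    exact IsPGroup.of_card (by rw [Nat.card_zpowers, hk])
  exact (P.is_maximal' (PG.isPGroup_sup_of_le_normalizer h1 P.isPGroup' (zpowers_le.2 ha))
    le_sup_right).le (mem_sup_left (mem_zpowers a))

namespace Hyp

variable {P : Sylow p G}

/-- A `p'`-element normalizing `P` with a nontrivial fixed point on `P` centralizes `P`. -/
theorem cent_of_fix (h : Hyp P) {n u : G} (hn : n ∈ normalizer ((P : Subgroup G) : Set G))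
    (hc : (orderOf n).Coprime p) (hu : u ∈ (P : Subgroup G)) (h1 : u ≠ 1) (e : n * u = u * n) :
    ∀ y ∈ (P : Subgroup G), n * y = y * n := by
  obtain ⟨z, hz, -, hz1⟩ := exists_mem_Vz P.isPGroup' (le_normalizer (H := (P : Subgroup G)))
    (by rw [inf_idem]; exact ne_bot_iff_exists_ne_one.2 ⟨⟨u, hu⟩, by simpa using h1⟩)
  have h2 : n * z = z * n := comm_of_norm (h.nil.cent P.isPGroup' hu h1) P.isPGroup'
    (mem_centralizer_singleton_iff.2 e) (mem_centralizer_singleton_iff.2 (hz.2.2 u hu).symm) hc hn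
    hz.1
  exact fun y hy => comm_of_norm (h.nil.cent P.isPGroup' hz.1 hz1) P.isPGroup'
    (mem_centralizer_singleton_iff.2 h2) (mem_centralizer_singleton_iff.2 (hz.2.2 y hy)) hc hn hy

theorem decompN (h : Hyp P) {n u : G} (hn : n ∈ normalizer ((P : Subgroup G) : Set G))
    (hu : u ∈ (P : Subgroup G)) (h1 : u ≠ 1) (e : n * u = u * n) :
    ∃ y ∈ (P : Subgroup G), y * u = u * y ∧ ∃ c, (∀ w ∈ (P : Subgroup G), c * w = w * c) ∧
      n = y * c := by
  obtain ⟨a, ha, b, hb, ha', hb', e'⟩ := exists_pPart_mul_pPrimePart (p := p) n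
  have hC : zpowers n ≤ centralizer {u} := zpowers_le.2 (mem_centralizer_singleton_iff.2 e)
  exact ⟨a, mem_of_norm P (zpowers_le.2 hn ha) ha', mem_centralizer_singleton_iff.1 (hC ha), b,
    h.cent_of_fix (zpowers_le.2 hn hb) hb' hu h1 (mem_centralizer_singleton_iff.1 (hC hb)), e'⟩

theorem fix_Vz (h : Hyp P) {n u : G} (hn : n ∈ normalizer ((P : Subgroup G) : Set G))
    (hu : u ∈ (P : Subgroup G)) (h1 : u ≠ 1) (e : n * u = u * n) :
    ∀ z ∈ Vz p (P : Subgroup G), n * z = z * n := fun z hz => by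
  obtain ⟨y, hy, -, c, hc, rfl⟩ := h.decompN hn hu h1 e
  rw [mul_assoc, hc z hz.1, ← mul_assoc, hz.2.2 y hy, mul_assoc]

/-- Every element of `P` is extremal. -/
theorem ext (h : Hyp P) {u : G} (hu : u ∈ (P : Subgroup G)) :
    ¬ p ∣ ((P : Subgroup G) ⊓ centralizer {u}).relIndex (centralizer {u}) := by
  obtain ⟨S, h1, h2, h3, h4⟩ := exists_sylowIn_ge (H := centralizer {u})
    (P.isPGroup'.to_le (inf_le_left (b := centralizer {u}))) inf_le_right
  obtain ⟨g, hg⟩ := exists_conj_le_sylow P h3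
  obtain ⟨n, hn, e⟩ := h.fus u hu g (hg u (h1 ⟨hu, mem_centralizer_singleton_iff.2 rfl⟩))
  have hc : n⁻¹ * g ∈ centralizer {u} := mem_centralizer_singleton_iff.2 (by
    calc n⁻¹ * g * u = n⁻¹ * (g * u * g⁻¹) * g := by group
      _ = u * (n⁻¹ * g) := by rw [← e]; group)
  have h5 : S.map (MulAut.conj (n⁻¹ * g)).toMonoidHom ≤ (P : Subgroup G) ⊓ centralizer {u} :=
    map_conj_le_iff.2 fun a ha => mem_inf.2 ⟨by
      have := inv_conj_mem_of_mem_normalizer hn (hg a ha)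
      simpa only [mul_inv_rev, inv_inv, mul_assoc] using this,
      mul_mem (mul_mem hc (h2 ha)) (inv_mem hc)⟩
  rwa [PG.eq_of_le_of_card_le h1 (card_map_conj S _ ▸ card_le_of_le h5)]

theorem fus_normal (h : Hyp P) {M : Subgroup G} [hM : M.Normal] {x m : G}
    (hx : x ∈ (P : Subgroup G) ⊓ M) (hm : m ∈ M) (hxm : m * x * m⁻¹ ∈ (P : Subgroup G)) :
    ∃ k ∈ M, k ∈ normalizer (((P : Subgroup G) ⊓ M : Subgroup G) : Set G) ∧
      k * x * k⁻¹ = m * x * m⁻¹ := by
  by_cases hx1 : x = 1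
  · exact ⟨1, one_mem _, one_mem _, by simp [hx1]⟩
  have hP := P.isPGroup'
  have hT : IsPGroup p ((P : Subgroup G) ⊓ M : Subgroup G) := hP.to_le inf_le_left
  obtain ⟨z, hz, hzM, hz1⟩ := exists_mem_Vz (N := M) hP (by simp [normalizer_eq_top])
    (ne_bot_iff_exists_ne_one.2 ⟨⟨x, hx⟩, by simpa using hx1⟩)
  have hN : ∀ u : G, centralizer {u} ≤ normalizer ((centralizer {u} ⊓ M : Subgroup G) : Set G) :=
    fun u => PG.le_normalizer_inf le_normalizer (by simp [normalizer_eq_top])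
  obtain ⟨c, ⟨hc, hcM⟩, hc'⟩ := exists_conj_le_sylowIn ((hP.to_le inf_le_left).to_le inf_le_left)
    (not_dvd_relIndex_inf_of_normal (h.ext hxm) (hP.to_le inf_le_left) inf_le_left (hN _))
    (T := zpowers (m * z * m⁻¹)) (IsPGroup.of_card (n := 1) (by
      rw [Nat.card_zpowers, ← MulAut.conj_apply, MulEquiv.orderOf_eq, orderOf_of_mem_Vz hz hz1,
        pow_one]))
    (zpowers_le.2 ⟨mem_centralizer_singleton_iff.2 (by
      calc m * z * m⁻¹ * (m * x * m⁻¹) = m * (z * x) * m⁻¹ := by group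
        _ = _ := by rw [← hz.2.2 x hx.1]; group), hM.conj_mem _ hzM _⟩)
  have hc1 : c * m * x * (c * m)⁻¹ = m * x * m⁻¹ := by
    calc c * m * x * (c * m)⁻¹ = c * (m * x * m⁻¹) * c⁻¹ := by group
      _ = _ := by rw [mem_centralizer_singleton_iff.1 hc]; group
  obtain ⟨n, hn, e⟩ := h.fus z hz.1 (c * m) (by
    simpa only [mul_inv_rev, mul_assoc] using
      (mem_inf.1 (mem_inf.1 (hc' _ (mem_zpowers _))).1).1)
  have hK := h.nil.cent hP hz.1 hz1
  have hPK : (P : Subgroup G) ≤ centralizer {z} := fun y hy =>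
    mem_centralizer_singleton_iff.2 (hz.2.2 y hy)
  obtain ⟨y, hy, l, hl, hl', e'⟩ := decomp hK hP (not_dvd_relIndex P _ hPK) (d := n⁻¹ * (c * m))
    (mem_centralizer_singleton_iff.2 (by
      calc n⁻¹ * (c * m) * z = n⁻¹ * (c * m * z * (c * m)⁻¹) * (c * m) := by group
        _ = _ := by rw [← e]; group))
  have e2 : c * m = n * y * l := by rw [mul_assoc n, ← e']; group
  have hny : n * y ∈ normalizer ((P : Subgroup G) : Set G) := mul_mem hn (le_normalizer hy)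
  have hlx : l * x = x * l := comm_of hK hP hl (hPK hx.1) hl' (mul_mem (by
    have := inv_conj_mem_of_mem_normalizer hny (hc1 ▸ hxm : c * m * x * (c * m)⁻¹ ∈ _)
    rw [e2] at this
    simpa only [mul_inv_rev, mul_assoc, inv_mul_cancel_left, inv_mul_cancel, mul_one] using this)
    (inv_mem hx.1))
  have hTi : ¬ p ∣ ((P : Subgroup G) ⊓ M).relIndex (centralizer {z} ⊓ M) := by
    have := not_dvd_relIndex_inf_of_normal (not_dvd_relIndex P _ hPK) hP inf_le_left (hN z)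
    rwa [← inf_assoc, inf_eq_left.2 hPK] at this
  obtain ⟨g, hg, hg'⟩ := exists_conj_le_sylowIn hT hTi (isPGroup_map_conj hT l⁻¹)
    (map_conj_le_iff.2 fun a ha => mem_inf.2 ⟨mul_mem (mul_mem (inv_mem hl) (hPK ha.1))
      (inv_mem (inv_mem hl)), hM.conj_mem _ ha.2 _⟩)
  obtain ⟨y1, hy1, l1, hl1, hl1', rfl⟩ := decomp (hK.of_le inf_le_left) hT hTi hg
  have hn1 : l1 * l⁻¹ ∈ normalizer (((P : Subgroup G) ⊓ M : Subgroup G) : Set G) := by
    have : y1 * l1 * l⁻¹ ∈ normalizer (((P : Subgroup G) ⊓ M : Subgroup G) : Set G) :=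
      mem_normalizer_of_conj_mem fun a ha => by
        simpa only [mul_inv_rev, mul_assoc] using hg' _ (conj_mem_map_conj.2 ha)
    rw [mul_assoc] at this
    exact (Subgroup.mul_mem_cancel_left _ (le_normalizer hy1)).1 this
  have h7 := comm_of_norm hK hT (mul_mem hl1.1 (inv_mem hl)) (hPK hx.1)
    (mul_cop hK hl1.1 (inv_mem hl) hl1' (by rwa [orderOf_inv])) hn1 hx
  refine ⟨c * m * l1⁻¹, mul_mem (mul_mem hcM hm) (inv_mem hl1.2), ?_, ?_⟩
  · rw [e2, mul_assoc (n * y), show l * l1⁻¹ = (l1 * l⁻¹)⁻¹ by group]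
    exact mul_mem (PG.le_normalizer_inf le_rfl (by simp [normalizer_eq_top]) hny) (inv_mem hn1)
  · have h8 : Commute l1 x := by
      simpa using (show Commute (l1 * l⁻¹) x from h7).mul_left (show Commute l x from hlx)
    rw [← hc1]
    calc c * m * l1⁻¹ * x * (c * m * l1⁻¹)⁻¹ = c * m * (l1⁻¹ * x * l1) * (c * m)⁻¹ := by group
      _ = _ := by rw [h8.inv_left.eq]; group

end Hyp

end Cfsg.Agent.GSz
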