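import Mathlib
import Cfsg.Agent.GSz.Base

/-! Class sizes, passage to normal subgroups, and the simple socle. -/

set_option autoImplicit false

namespace Cfsg.Agent.GSz

open Cfsg Cfsg.Agent.GT Cfsg.Agent.GT.Tr Subgroup

variable {G : Type*} [Group G] {p : ℕ}

/-- The class of `u` under `N(P)`. -/
def cl (P : Subgroup G) (u : G) : Set G := {w | ∃ n ∈ normalizer (P : Set G), n * u * n⁻¹ = w}

variable [Finite G] [Fact p.Prime]

theorem Nil.subgroup (h : Nil p G) (M : Subgroup G) : Nil p M := fun x hx =>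
  (h x (by rwa [orderOf_coe])).of_injective
    ((M.subtype.comp (centralizer {x}).subtype).codRestrict _ fun y =>
      mem_centralizer_singleton_iff.2 (congrArg Subtype.val (mem_centralizer_singleton_iff.1 y.2)))
    fun _ _ e => Subtype.ext (Subtype.ext (congrArg Subtype.val e :))

/-- The Sylow subgroup `P ∩ M` of a normal subgroup `M`. -/
def sylN (P : Sylow p G) (M : Subgroup G) [M.Normal] : Sylow p M :=
  sylowOfRel (P.isPGroup'.to_le inf_le_left) (not_dvd_relIndex_sylow_inf_normal P M)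

theorem mem_sylN {P : Sylow p G} {M : Subgroup G} [M.Normal] {x : M} :
    x ∈ (sylN P M : Subgroup M) ↔ (x : G) ∈ (P : Subgroup G) :=
  ⟨fun h => h.1, fun h => ⟨h, x.2⟩⟩

namespace Hyp

variable {P : Sylow p G}

theorem normal (h : Hyp P) (M : Subgroup G) [M.Normal] : Hyp (sylN P M) := by
  refine ⟨fun x hx g hg => ?_, h.nil.subgroup M⟩
  obtain ⟨k, hk, hn, e⟩ := h.fus_normal ⟨mem_sylN.1 hx, x.2⟩ g.2 (mem_sylN.1 hg)
  exact ⟨⟨k, hk⟩, mem_normalizer_of_conj_mem fun a ha =>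
    mem_sylN.2 (conj_mem_of_mem_normalizer hn ⟨mem_sylN.1 ha, a.2⟩).1, Subtype.ext e⟩

omit [Finite G] [Fact p.Prime] in
theorem mem_cl (h : Hyp P) {u w : G} (hu : u ∈ (P : Subgroup G)) :
    w ∈ cl P u ↔ w ∈ (P : Subgroup G) ∧ IsConj u w := by
  refine ⟨?_, fun ⟨h1, h2⟩ => ?_⟩
  · rintro ⟨n, hn, rfl⟩
    exact ⟨conj_mem_of_mem_normalizer hn hu, isConj_iff.2 ⟨n, rfl⟩⟩
  · obtain ⟨g, rfl⟩ := isConj_iff.1 h2
    exact h.fus u hu g h1

theorem card_cl' (h : Hyp P) {u : G} (hu : u ∈ (P : Subgroup G)) (h1 : u ≠ 1) :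
    (cl P u).ncard * Nat.card ↥((P : Subgroup G) ⊓ centralizer {u}) *
      Nat.card (centralizer ((P : Subgroup G) : Set G)) =
      Nat.card (normalizer ((P : Subgroup G) : Set G)) *
        Nat.card ↥((P : Subgroup G) ⊓ centralizer ((P : Subgroup G) : Set G)) := by
  have h2 : centralizer ((P : Subgroup G) : Set G) ≤ centralizer {u} :=
    centralizer_le (Set.singleton_subset_iff.2 hu)
  have h3 := PG.card_sup_mul_card_inf (H := (P : Subgroup G) ⊓ centralizer {u})
    (N := centralizer ((P : Subgroup G) : Set G))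
    (inf_le_left.trans (le_normalizer.trans (normalizer_le_normalizer_centralizer _)))
  have h4 : (P : Subgroup G) ⊓ centralizer {u} ⊔ centralizer ((P : Subgroup G) : Set G) =
      centralizer {u} ⊓ normalizer ((P : Subgroup G) : Set G) := by
    refine le_antisymm (sup_le (le_inf inf_le_right (inf_le_left.trans le_normalizer))
      (le_inf h2 (PG.centralizer_le_normalizer' _))) fun n hn => ?_
    obtain ⟨y, hy, hyu, c, hc, rfl⟩ := h.decompN hn.2 hu h1 (mem_centralizer_singleton_iff.1 hn.1)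
    exact mul_mem (mem_sup_left ⟨hy, mem_centralizer_singleton_iff.2 hyu⟩)
      (mem_sup_right (mem_centralizer_iff.2 fun w hw => (hc w hw).symm))
  rw [h4, inf_assoc, inf_eq_right.2 h2] at h3
  rw [cl, FG.ncard_conj_orbit_subgroup, mul_assoc, ← h3, ← mul_assoc, PG.relIndex_mul_card_inf]

theorem card_cl (h : Hyp P) {u x : G} (hu : u ∈ (P : Subgroup G)) (h1 : u ≠ 1)
    (hx : x ∈ Vz p (P : Subgroup G)) (hx1 : x ≠ 1) :
    (cl P u).ncard * p ^ (Nat.card (centralizer ({u} : Set G))).factorization p =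
      (cl P x).ncard * Nat.card (P : Subgroup G) := by
  have h2 := (h.card_cl' hu h1).trans (h.card_cl' hx.1 hx1).symm
  rw [show (P : Subgroup G) ⊓ centralizer {x} = P from inf_eq_left.2 fun y hy =>
    mem_centralizer_singleton_iff.2 (hx.2.2 y hy)] at h2
  rw [← Nat.eq_of_mul_eq_mul_right Nat.card_pos h2,
    ← (sylowOfRel (P.isPGroup'.to_le inf_le_left) (h.ext hu)).card_eq_multiplicity,
    coe_sylowOfRel, Nat.card_congr (subgroupOfEquivOfLe inf_le_right).toEquiv]

end Hyp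

theorem Nil.isPGroup (h : Nil p G) {S : Subgroup G} (hS : pPrimeCoreOf p S = ⊥) {x : G}
    (hx : orderOf x = p) (hc : S ≤ centralizer {x}) : IsPGroup p S := by
  rw [← Tr.pResidual_eq_bot_iff, ← ((h x hx).of_le hc).pPrimeCore_eq_pResidual]
  exact pPrimeCoreOf_eq_bot_iff.1 hS

theorem Hyp.pCore_eq_bot {P : Sylow p G} (h : Hyp P) (hcore : pPrimeCore p G = ⊥)
    (hnn : ¬ (P : Subgroup G).Normal) : pCore p G = ⊥ := by
  by_contra h1
  obtain ⟨z, hz, hzO, hz1⟩ := exists_mem_Vz (N := pCore p G) P.isPGroup'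
    (by simp [normalizer_eq_top]) (by rwa [inf_eq_right.2 (pCore_le_sylow P)])
  have hW : (Vz p (P : Subgroup G) ⊓ pCore p G).Normal := ⟨fun a ha g =>
    have := (inferInstance : (pCore p G).Normal).conj_mem a ha.2 g
    ⟨h.sc ha.1 (pCore_le_sylow P this), this⟩⟩
  have h2 : IsPGroup p (centralizer ((Vz p (P : Subgroup G) ⊓ pCore p G : Subgroup G) : Set G)) :=
    h.nil.isPGroup (eq_bot_iff.2 ((pPrimeCoreOf_le_pPrimeCore _).trans hcore.le))
      (orderOf_of_mem_Vz hz hz1) (centralizer_le (Set.singleton_subset_iff.2 ⟨hz, hzO⟩))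
  rw [← P.is_maximal' h2 fun y hy => mem_centralizer_iff.2 fun a ha => (ha.1.2.2 y hy).symm] at hnn
  exact hnn inferInstance

theorem exists_orderOf_of_core {S : Subgroup G} (hS : pPrimeCoreOf p S = ⊥) (h1 : S ≠ ⊥) :
    ∃ x ∈ S, orderOf x = p := by
  have : p ∣ Nat.card S := by
    by_contra h2
    exact h1 ((pPrimeCoreOf_eq_self_iff.2
      ((Nat.Prime.coprime_iff_not_dvd Fact.out).2 h2).symm).symm.trans hS)
  obtain ⟨x, hx⟩ := exists_prime_orderOf_dvd_card' p this
  exact ⟨x, x.2, by rwa [orderOf_coe]⟩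

theorem Nil.exists_simple [Nontrivial G] (h : Nil p G) (h1 : pPrimeCore p G = ⊥)
    (h2 : pCore p G = ⊥) : ∃ M : Subgroup G, M.Normal ∧ IsSimpleGroup M ∧ ¬ IsMulCommutative M ∧
      p ∣ Nat.card M ∧ centralizer (M : Set G) = ⊥ := by
  obtain ⟨M, hM⟩ := exists_isMinNormal G
  have hMn := hM.normal
  have key : ∀ S : Subgroup G, S ≤ M → M ≤ normalizer (S : Set G) →
      pPrimeCoreOf p S = ⊥ ∧ pCoreOf p S = ⊥ := fun S h3 h4 =>
    ⟨eq_bot_iff.2 ((pPrimeCoreOf_le_pPrimeCoreOf h3 h4).trans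
      ((pPrimeCoreOf_le_pPrimeCore _).trans h1.le)),
    eq_bot_iff.2 ((pCoreOf_le_pCoreOf h3 h4).trans ((pCoreOf_le_pCore _).trans h2.le))⟩
  obtain ⟨x, hx, hxp⟩ := exists_orderOf_of_core (key M le_rfl le_normalizer).1 hM.ne_bot
  have hC : centralizer (M : Set G) = ⊥ := eq_bot_iff.2 ((le_pCore (h.isPGroup
    (eq_bot_iff.2 ((pPrimeCoreOf_le_pPrimeCore _).trans h1.le)) hxp
    (centralizer_le (Set.singleton_subset_iff.2 hx)))).trans h2.le)
  have hnt : Nontrivial M := (nontrivial_iff_ne_bot M).2 hM.ne_bot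
  refine ⟨M, hMn, ⟨fun N hN => ?_⟩, fun hc => hM.ne_bot (eq_bot_iff.2
    ((PG.isMulCommutative_iff_le_centralizer.1 hc).trans hC.le)),
    hxp ▸ orderOf_dvd_natCard M hx, hC⟩
  refine or_iff_not_imp_left.2 fun hN1 => ?_
  obtain ⟨S, ⟨hS1, hS2, hS3⟩, hSN⟩ := exists_isMinInv_le (le_normalizer_map_subtype M N)
    (fun e => hN1 ((map_eq_bot_iff_of_injective N M.subtype_injective).1 e))
  have hSM : S ≤ M := hSN.trans (map_subtype_le N)
  have hS : S.Normal := ⟨fun a ha g => by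
    have hSg : M ≤ normalizer ((S.map (MulAut.conj g⁻¹).toMonoidHom : Subgroup G) : Set G) := by
      rw [normalizer_map_conj]
      exact fun m hm => mem_map_conj.2 (hS1 (hMn.conj_mem' m hm _))
    have hSgM : S.map (MulAut.conj g⁻¹).toMonoidHom ≤ M :=
      map_conj_le_iff.2 fun b hb => hMn.conj_mem b (hSM hb) _
    rcases hS3 _ (PG.le_normalizer_inf hS1 hSg) inf_le_left with e | e
    · obtain ⟨y, hy, hyp⟩ := exists_orderOf_of_core (key _ hSgM hSg).1
        (fun e => hS2 ((map_eq_bot_iff_of_injective S (MulAut.conj g⁻¹).injective).1 e))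
      have h5 := h.isPGroup (key S hSM hS1).1 hyp ((le_centralizer_of_le_normalizer
        (hSM.trans hSg) (hSgM.trans hS1) e).trans (centralizer_le (Set.singleton_subset_iff.2 hy)))
      exact (hS2 ((pCoreOf_eq_self_iff.2 h5).symm.trans (key S hSM hS1).2)).elim
    · simpa using mem_map_conj.1 (e.ge ha).2⟩
  rw [(hM.eq_bot_or_eq hSM).resolve_left hS2] at hSN
  refine eq_top_iff.2 fun m _ => ?_
  obtain ⟨n, hn, e⟩ := hSN m.2
  exact (Subtype.ext e : n = m) ▸ hn

end Cfsg.Agent.GSz
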