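import Mathlib
import Cfsg.Agent.GSz.Struct
import Cfsg.Agent.Ch.Kernel

/-! A lower bound for the norm of the restriction of a character to `P`. -/

set_option autoImplicit false

namespace Cfsg.Agent.GSz

open Cfsg Cfsg.Agent.GT Cfsg.Agent.GT.Tr Cfsg.Agent.Ch Subgroup Finset

section
variable {Z Q : Type*} [Group Z] [Fintype Z] [Group Q]

open Classical in
theorem sum_central [Finite Q] (f : Z →* Q) (hf : ∀ z, f z ∈ center Q) (φ : IrrCharacter Q) :
    ∑ z, (φ : Q → ℂ) (f z) = if ∀ z, (φ : Q → ℂ) (f z) = (φ : Q → ℂ) 1 then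
      Nat.card Z * (φ : Q → ℂ) 1 else 0 := by
  split_ifs with h
  · simp [h]
  push Not at h
  obtain ⟨w, hw⟩ := h
  have h1 : (φ : Q → ℂ) 1 * ∑ z, (φ : Q → ℂ) (f z) = (φ : Q → ℂ) (f w) * ∑ z, (φ : Q → ℂ) (f z) := by
    rw [mul_sum, mul_sum, ← Equiv.sum_comp (Equiv.mulLeft w)]
    exact sum_congr rfl fun z _ => by
      rw [Equiv.coe_mulLeft, map_mul, φ.2.apply_mul_of_mem_center (hf w)]
  exact (mul_eq_mul_right_iff.1 h1).resolve_left hw.symm

theorem lower_bound [Fintype Q] (f : Z →* Q) (hinj : Function.Injective f)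
    (hf : ∀ z, f z ∈ center Q) {θ : Q → ℂ} (hθ : IsCharacter Q θ) {m e : ℕ}
    (hm : ∑ z, θ (f z) = Nat.card Z * m)
    (he : e ≤ {φ : IrrCharacter Q | classInner θ φ ≠ 0 ∧
      ¬ ∀ z, (φ : Q → ℂ) (f z) = (φ : Q → ℂ) 1}.ncard) :
    (Nat.card Z * m ^ 2 + e * Nat.card Q : ℝ) ≤ ∑ u, ‖θ u‖ ^ 2 := by
  classical
  obtain ⟨c, hc, hθc⟩ := hθ.exists_mult
  set A : IrrCharacter Q → Prop := fun φ => ∀ z, (φ : Q → ℂ) (f z) = (φ : Q → ℂ) 1 with hA
  have key : ∀ b : IrrCharacter Q → ℕ, ∑ z, ∑ φ : IrrCharacter Q, b φ * (φ : Q → ℂ) (f z) =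
      Nat.card Z * (∑ φ with A φ, b φ * charDegree (φ : Q → ℂ) : ℕ) := fun b => by
    rw [sum_comm, sum_filter]
    push_cast
    rw [mul_sum]
    refine sum_congr rfl fun φ _ => ?_
    rw [← mul_sum, sum_central f hf, φ.2.coe_charDegree]
    split_ifs <;> ring
  have h1 : m = ∑ φ with A φ, c φ * charDegree (φ : Q → ℂ) := by
    have := key c
    rw [sum_congr rfl (g := fun z => θ (f z)) fun z _ => by rw [hθc]; simp, hm] at this
    exact_mod_cast mul_left_cancel₀ (natCard_ne_zero Z) this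
  have h2 : Nat.card Q = Nat.card Z * ∑ φ with A φ, charDegree (φ : Q → ℂ) ^ 2 := by
    have := key fun φ => charDegree (φ : Q → ℂ)
    rw [sum_congr rfl (g := fun z => regChar Q (f z)) fun z _ => by
      rw [← sum_degree_mul_apply]
      exact sum_congr rfl fun φ _ => by rw [φ.2.coe_charDegree],
      sum_eq_single 1 (fun z _ hz => regChar_of_ne ((map_ne_one_iff f hinj).2 hz)) (by simp),
      map_one, regChar_one] at this
    simp only [sq]
    exact_mod_cast this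
  have h3 : Nat.card Z * m ^ 2 ≤ Nat.card Q * ∑ φ with A φ, c φ ^ 2 := by
    rw [h2, h1, mul_assoc, mul_comm (∑ φ with A φ, _)]
    exact Nat.mul_le_mul_left _ (sum_mul_sq_le_sq_mul_sq _ _ _)
  have h4 : e ≤ ∑ φ with ¬ A φ, c φ ^ 2 := by
    refine he.trans ?_
    rw [Set.ncard_eq_toFinset_card', card_eq_sum_ones]
    refine (sum_le_sum fun φ hφ => ?_).trans (sum_le_sum_of_subset fun φ hφ => ?_)
    · have := (Set.mem_toFinset.1 hφ).1
      rw [hc] at this
      exact Nat.one_le_pow _ _ (Nat.pos_of_ne_zero (by exact_mod_cast this))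
    · exact mem_filter.2 ⟨mem_univ _, (Set.mem_toFinset.1 hφ).2⟩
  have h5 : ∑ u, ‖θ u‖ ^ 2 = (Nat.card Q * ∑ φ, c φ ^ 2 : ℕ) := by
    have := hθ.isClassFunction.re_classInner_self_eq_sum
    rw [re_classInner_self, inv_mul_eq_iff_eq_mul₀ (by exact_mod_cast Nat.card_pos.ne')] at this
    simp [this, hc]
  rw [h5, ← sum_filter_add_sum_filter_not univ A, mul_add, mul_comm (e : ℝ)]
  exact_mod_cast add_le_add h3 (Nat.mul_le_mul_left _ h4)

end

variable {G : Type*} [Group G] {p : ℕ} [Finite G] [Fact p.Prime] {P : Sylow p G}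

omit [Finite G] [Fact p.Prime] in
theorem inclusion_mem_center (z : Vz p (P : Subgroup G)) :
    inclusion (Vz_le _) z ∈ center (P : Subgroup G) :=
  mem_center_iff.2 fun y => Subtype.ext (z.2.2.2 y y.2)

theorem Hyp.le_ncard (h : Hyp P) [Fintype (P : Subgroup G)] {χ : G → ℂ} (hχ : IsCharacter G χ)
    (hk : ¬ Vz p (P : Subgroup G) ≤ charKer χ) {x : G} (hx : x ∈ Vz p (P : Subgroup G)) :
    (cl P x).ncard ≤ {φ : IrrCharacter (P : Subgroup G) | classInner (fun u : P => χ u) φ ≠ 0 ∧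
      ¬ ∀ z : Vz p (P : Subgroup G), (φ : P → ℂ) (inclusion (Vz_le _) z) = (φ : P → ℂ) 1}.ncard := by
  obtain ⟨z₀, hz₀, h1⟩ := SetLike.not_le_iff_exists.1 hk
  have h2 : (⟨z₀, hz₀.1⟩ : P) ∉ charKer (fun u : (P : Subgroup G) => χ u) := by
    rwa [hχ.charKer_restrict]
  rw [(hχ.restrict _).mem_charKer_iff_forall_constituent] at h2
  push Not at h2
  obtain ⟨φ, hφ, hφ1, hφ2⟩ := h2
  rw [hφ.mem_charKer] at hφ2
  have hn : ∀ w : cl P x, ∃ n : normalizer ((P : Subgroup G) : Set G), n * x * (n : G)⁻¹ = w :=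
    fun ⟨w, n, hn, e⟩ => ⟨⟨n, hn⟩, e⟩
  choose n hn using hn
  let α := (P : Subgroup G).normalizerMonoidHom
  have hα : ∀ (a : normalizer ((P : Subgroup G) : Set G)) (u : P),
      (α a u : G) = a * u * (a : G)⁻¹ := fun _ _ => rfl
  let cj : normalizer ((P : Subgroup G) : Set G) → Vz p (P : Subgroup G) → Vz p (P : Subgroup G) :=
    fun a z => ⟨a * z * (a : G)⁻¹, Vz_conj a.2 z.2⟩
  have hcj : ∀ a z, α a (inclusion (Vz_le _) z) = inclusion (Vz_le _) (cj a z) := fun _ _ => rfl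
  rw [← Nat.card_coe_set_eq, ← Nat.card_coe_set_eq]
  refine Nat.card_le_card_of_injective (fun w => ⟨irrCongr (α (n w)⁻¹) ⟨φ, hφ⟩, ?_, fun h3 => ?_⟩)
    fun w w' e => ?_
  · rw [← classInner_comp_mulEquiv (α (n w))]
    convert hφ1 using 2
    · exact funext fun u => hχ.isClassFunction _ _
    · exact funext fun u => by rw [irrCongr_apply, ← MulAut.mul_apply, ← map_mul]; simp
  · have := h3 (cj (n w) ⟨z₀, hz₀⟩)
    rw [← hcj, irrCongr_apply, irrCongr_apply, ← MulAut.mul_apply, ← map_mul, inv_mul_cancel,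
      map_one, map_one] at this
    exact hφ2 this
  have e1 : ∀ u, φ (α ((n w)⁻¹ * n w') u) = φ u := fun u => by
    have := congrFun (congrArg Subtype.val (congrArg Subtype.val e)) (α (n w') u)
    change φ (α (n w)⁻¹ (α (n w') u)) = φ (α (n w')⁻¹ (α (n w') u)) at this
    rwa [← MulAut.mul_apply, ← MulAut.mul_apply, ← map_mul, ← map_mul, inv_mul_cancel, map_one,
      MulAut.one_apply] at this
  set g := (n w)⁻¹ * n w' with hg
  have h4 : ∃ z ∈ Vz p (P : Subgroup G), z ≠ 1 ∧ g * z = z * g := by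
    by_contra! h4
    have hinj : Function.Injective fun z => z⁻¹ * cj g z := fun a b e => by
      have e2 : (a : G)⁻¹ * (g * a * (g : G)⁻¹) = (b : G)⁻¹ * (g * b * (g : G)⁻¹) :=
        congrArg Subtype.val e
      by_contra hab
      refine h4 _ (mul_mem b.2 (inv_mem a.2)) (fun e => hab (Subtype.ext (mul_inv_eq_one.1 e).symm)) ?_
      calc _ = b * ((b : G)⁻¹ * (g * b * (g : G)⁻¹)) * g * (a : G)⁻¹ := by group
        _ = _ := by rw [← e2]; group
    obtain ⟨z, hz⟩ := Finite.surjective_of_injective hinj ⟨z₀, hz₀⟩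
    have h5 := hφ.apply_mul_of_mem_center (inclusion_mem_center z) (inclusion (Vz_le _) ⟨z₀, hz₀⟩)
    rw [← map_mul, ← hz, mul_inv_cancel_left, ← hcj, e1, mul_comm, hz] at h5
    refine hφ2 (mul_left_cancel₀ (fun h6 => ?_) h5).symm
    have := hφ.norm_apply_of_mem_center (inclusion_mem_center z)
    rw [h6, norm_zero] at this
    exact hφ.charDegree_pos.ne (by exact_mod_cast this)
  obtain ⟨z, hz, hz1, hgz⟩ := h4
  have h5 := h.fix_Vz g.2 hz.1 hz1 hgz x hx
  refine Subtype.ext ?_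
  rw [← hn, ← hn]
  calc _ = n w * (x * g) * (g : G)⁻¹ * (n w : G)⁻¹ := by group
    _ = _ := by rw [← h5, hg]; push_cast; group

end Cfsg.Agent.GSz
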