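import Mathlib
import Cfsg.Prelude.Def_TwoFusion
import Cfsg.Agent.GSz.Struct
import Cfsg.Agent.GT.PSolvable

/-! The subgroup generated by two conjugates of elements of `Ω₁(Z(P))`. -/

set_option autoImplicit false

namespace Cfsg.Agent.GSz

open Cfsg Cfsg.Agent.GT Cfsg.Agent.GT.Tr Subgroup

variable {G : Type*} [Group G] {p : ℕ} [Finite G] [Fact p.Prime]

theorem normal_map_of_sc (hs : IsPSolvable p G) (R : Sylow p G) {W : Subgroup G}
    (hW : IsStronglyClosed W R) (hc : ∀ w ∈ W, ∀ r ∈ (R : Subgroup G), r * w = w * r) :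
    (W.map (QuotientGroup.mk' (pPrimeCore p G))).Normal := by
  set π := QuotientGroup.mk' (pPrimeCore p G)
  have hR : pCore p (G ⧸ pPrimeCore p G) ≤ (R : Subgroup G).map π :=
    pCore_le_sylow (R.mapSurjective (QuotientGroup.mk'_surjective _))
  have hcomm : ∀ w ∈ W, ∀ r ∈ (R : Subgroup G).map π, r * π w = π w * r := by
    rintro w hw _ ⟨r, hr, rfl⟩
    rw [← map_mul, hc w hw r hr, map_mul]
  refine ⟨?_⟩
  rintro _ ⟨w, hw, rfl⟩ k
  obtain ⟨k, rfl⟩ := QuotientGroup.mk'_surjective _ k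
  have h1 : π w ∈ pCore p (G ⧸ pPrimeCore p G) :=
    (hs.quotient _).centralizer_pCore_le pPrimeCore_quotient_pPrimeCore
      (mem_centralizer_iff.2 fun r hr => hcomm w hw r (hR hr))
  have h2 : k * w * k⁻¹ ∈ ((R : Subgroup G).map π).comap π := by
    rw [mem_comap, map_mul, map_mul, map_inv]
    exact hR ((inferInstance : (pCore p _).Normal).conj_mem _ h1 _)
  obtain ⟨g, hg, hg'⟩ := exists_conj_le_sylowIn R.isPGroup'
    (not_dvd_relIndex R _ (le_comap_map π _)) (T := zpowers (k * w * k⁻¹))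
    (by rw [← MulAut.conj_apply, ← MulEquiv.coe_toMonoidHom, ← MonoidHom.map_zpowers]
        exact (R.isPGroup'.to_le (zpowers_le.2 (hW.1 hw))).map _) (zpowers_le.2 h2)
  have h3 : g * (k * w * k⁻¹) * g⁻¹ ∈ W := by
    have := hW.2 w hw (g * k) (by simpa only [mul_inv_rev, mul_assoc] using hg' _ (mem_zpowers _))
    simpa only [mul_inv_rev, mul_assoc] using this
  refine ⟨_, h3, ?_⟩
  have h4 := hcomm _ h3 _ (inv_mem (mem_comap.1 hg))
  simp only [map_mul, map_inv] at h4 ⊢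
  calc _ = π g * (π k * π w * (π k)⁻¹) * (π g)⁻¹ * (π g)⁻¹ * π g := by group
    _ = π k * π w * (π k)⁻¹ := by rw [← h4]; group

/-- Conjugate into `Ω₁(Z(P))`. -/
def SC (P : Sylow p G) (a : G) : Prop := ∃ g, g * a * g⁻¹ ∈ Vz p (P : Subgroup G)

theorem Hyp.pair {P : Sylow p G} (h : Hyp P) {x y : G} (hs : IsPSolvable p (closure {x, y}))
    (hx : SC P x) (hy : SC P y) :
    (∀ u ∈ closure {x, y}, (∃ k, orderOf u = p ^ k) → SC P u) ∧
      (¬ p ∣ orderOf (x * y) → IsConj x y⁻¹) ∧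
      (p ≠ 2 → x ≠ 1 → ¬ p ∣ orderOf (x * y) → p ∣ orderOf (x⁻¹ * y)) := by
  have hp : p.Prime := Fact.out
  set K := closure {x, y}
  obtain ⟨R⟩ : Nonempty (Sylow p K) := inferInstance
  obtain ⟨g, hg⟩ := exists_conj_le_sylow P (R.isPGroup'.map K.subtype)
  have hg' : ∀ r ∈ (R : Subgroup K), g * r * g⁻¹ ∈ (P : Subgroup G) := fun r hr =>
    hg _ (mem_map_of_mem _ hr)
  let W : Subgroup K := (R : Subgroup K) ⊓
    (Vz p (P : Subgroup G)).comap ((MulAut.conj g).toMonoidHom.comp K.subtype)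
  have hW : ∀ w : K, w ∈ W ↔ w ∈ (R : Subgroup K) ∧ SC P w := fun w => by
    refine ⟨fun hw => ⟨hw.1, g, hw.2⟩, fun ⟨h1, a, ha⟩ => ⟨h1, ?_⟩⟩
    have := h.sc ha (g := g * a⁻¹) (by simpa [mul_assoc] using hg' w h1)
    change g * w * g⁻¹ ∈ Vz p (P : Subgroup G)
    simpa [mul_assoc] using this
  have hSC : ∀ (w k : K), SC P w → SC P (k * w * k⁻¹ : K) := fun w k ⟨a, ha⟩ =>
    ⟨a * (k : G)⁻¹, by simpa [mul_assoc] using ha⟩
  have hc : ∀ w ∈ W, ∀ r ∈ (R : Subgroup K), r * w = w * r := fun w hw r hr => by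
    have := (show g * w * g⁻¹ ∈ Vz p (P : Subgroup G) from hw.2).2.2 _ (hg' r hr)
    exact Subtype.ext ((MulAut.conj g).injective (by simpa [mul_assoc] using this))
  have hN := normal_map_of_sc hs R ⟨inf_le_left, fun w hw k hk =>
    (hW _).2 ⟨hk, hSC w k ((hW w).1 hw).2⟩⟩ hc
  set π := QuotientGroup.mk' (pPrimeCore p K)
  have hpw : ∀ u : G, SC P u → u ^ p = 1 := fun u ⟨a, ha⟩ => by
    have := ha.2.1
    rwa [conj_pow, conj_eq_one_iff] at this
  have hR : ∀ u : K, (∃ k, orderOf u = p ^ k) → ∃ k : K, k * u * k⁻¹ ∈ (R : Subgroup K) :=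
    fun u ⟨k, hk⟩ => by
      obtain ⟨a, ha⟩ := exists_conj_le_sylow R (T := zpowers u)
        (IsPGroup.of_card (by rw [Nat.card_zpowers, hk]))
      exact ⟨a, ha u (mem_zpowers u)⟩
  have hR' : ∀ u : K, SC P u → ∃ k : K, k * u * k⁻¹ ∈ W := fun u hu => by
    obtain ⟨j, -, hj⟩ := (Nat.dvd_prime_pow hp (m := 1)).1 (orderOf_dvd_of_pow_eq_one (x := u)
      (Subtype.ext (by simpa using hpw u hu)))
    obtain ⟨k, hk⟩ := hR u ⟨j, hj⟩
    exact ⟨k, (hW _).2 ⟨hk, hSC u k hu⟩⟩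
  have hgen : ∀ u : K, SC P u → π u ∈ W.map π := fun u hu => by
    obtain ⟨k, hk⟩ := hR' u hu
    simpa only [map_mul, map_inv, mul_assoc, inv_mul_cancel_left, inv_mul_cancel, mul_one] using
      hN.conj_mem' _ (mem_map_of_mem π hk) (π k)
  have htop : ∀ u : K, π u ∈ W.map π := fun ⟨u, hu⟩ => by
    induction hu using closure_induction with
    | mem a ha => rcases ha with rfl | rfl; exacts [hgen _ hx, hgen _ hy]
    | one => exact one_mem _
    | mul a b ha hb h1 h2 => exact mul_mem h1 h2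
    | inv a ha h1 => exact inv_mem h1
  have hinj : ∀ a ∈ (R : Subgroup K), ∀ b ∈ (R : Subgroup K), π a = π b → a = b :=
    fun a ha b hb e => inv_mul_eq_one.1 (mem_bot.1 ((pPrimeCore_inf_eq_bot R.isPGroup').le
      (mem_inf.2 ⟨QuotientGroup.eq.1 e, mul_mem (inv_mem ha) hb⟩)))
  have hab : ∀ a b : K, π (a * b * a⁻¹) = π b := fun a b => by
    obtain ⟨a', ha, e1⟩ := htop a
    obtain ⟨b', hb, e2⟩ := htop b
    rw [map_mul, map_mul, map_inv, ← e1, ← e2, ← map_mul, hc b' hb a' ha.1, map_mul,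
      mul_inv_cancel_right]
  have hexp : ∀ a : K, π a ^ p = 1 := fun a => by
    obtain ⟨a', ha, e1⟩ := htop a
    rw [← e1, ← map_pow, show a' ^ p = 1 from Subtype.ext (hpw _ ((hW _).1 ha).2), map_one]
  have hreg : ∀ a : K, ¬ p ∣ orderOf (a : G) → π a = 1 := fun a ha =>
    orderOf_eq_one_iff.1 (((Nat.dvd_prime hp).1 (orderOf_dvd_of_pow_eq_one (hexp a))).resolve_right
      fun e => ha (e ▸ orderOf_coe a ▸ orderOf_map_dvd π a))
  let x' : K := ⟨x, subset_closure (by simp)⟩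
  let y' : K := ⟨y, subset_closure (by simp)⟩
  refine ⟨fun u hu hu' => ?_, fun h1 => ?_, fun h2 hx1 h1 => ?_⟩
  · obtain ⟨k, hk⟩ := hR ⟨u, hu⟩ (by rwa [orderOf_mk])
    obtain ⟨w, hw, e⟩ := htop (k * ⟨u, hu⟩ * k⁻¹)
    have := hSC _ k⁻¹ ((hW w).1 hw).2
    rw [hinj _ hw.1 _ hk e] at this
    simpa [mul_assoc] using this
  · obtain ⟨a, ha⟩ := hR' x' hx
    obtain ⟨b, hb⟩ := hR' y' hy
    have h3 := hinj _ ha.1 _ (inv_mem hb.1) (by
      rw [map_inv, hab, hab, eq_inv_iff_mul_eq_one, ← map_mul]; exact hreg (x' * y') h1)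
    have h4 : (a : G) * x * (a : G)⁻¹ = (b * y * (b : G)⁻¹)⁻¹ := congrArg Subtype.val h3
    exact isConj_iff.2 ⟨(b : G)⁻¹ * a, by
      calc _ = (b : G)⁻¹ * (a * x * (a : G)⁻¹) * b := by group
        _ = _ := by rw [h4]; group⟩
  · by_contra h3
    have h4 := hreg (x' * y') h1
    have h5 := hreg (x'⁻¹ * y') h3
    rw [map_mul, map_inv, inv_mul_eq_one] at h5
    rw [map_mul, ← h5, ← sq] at h4
    have h6 : π x' = 1 := orderOf_eq_one_iff.1 (Nat.eq_one_of_dvd_coprimes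
      ((Nat.coprime_primes hp Nat.prime_two).2 h2) (orderOf_dvd_of_pow_eq_one (hexp x'))
      (orderOf_dvd_of_pow_eq_one h4))
    obtain ⟨a, ha⟩ := hR' x' hx
    have h7 := hinj _ ha.1 1 (one_mem _) (by rw [hab, h6, map_one])
    exact hx1 (congrArg Subtype.val (conj_eq_one_iff.1 h7))

end Cfsg.Agent.GSz
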