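import Mathlib
import Cfsg.Agent.GSz.Char
import Cfsg.Agent.GSz.Local
import Cfsg.Agent.Ch.PiPart
import Cfsg.Agent.Blk.PB

/-! Column sums over the principal block and the bound on the `V`-fixed part of a character. -/

set_option autoImplicit false

namespace Cfsg.Agent.GSz

open Cfsg Cfsg.Agent.GT Cfsg.Agent.GT.Tr Cfsg.Agent.Ch Cfsg.Agent.Blk.PB Subgroup Finset
open scoped ComplexConjugate

variable {G : Type*} [Group G] {p : ℕ} {M : Ideal AlgInt}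

open Classical in
/-- The nonidentity elements of a subgroup. -/
noncomputable def sh [Fintype G] (A : Subgroup G) : Finset G := {u | u ∈ A ∧ u ≠ 1}

theorem mem_sh [Fintype G] {A : Subgroup G} {u : G} : u ∈ sh A ↔ u ∈ A ∧ u ≠ 1 := by simp [sh]

theorem sum_sh {R : Type*} [AddCommMonoid R] [Fintype G] (A : Subgroup G) [Fintype A]
    (f : G → R) : ∑ u : A, f u = f 1 + ∑ u ∈ sh A, f u := by
  classical
  rw [← sum_insert (fun h => (mem_sh.1 h).2 rfl)]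
  refine (sum_subtype _ (fun u => ?_) f).symm
  rw [mem_insert, mem_sh]
  exact ⟨fun h => h.elim (fun e => e ▸ one_mem _) (·.1), fun h => or_iff_not_imp_left.2 (⟨h, ·⟩)⟩

theorem card_sh [Fintype G] (A : Subgroup G) : Nat.card A = 1 + #(sh A) := by
  have := Fintype.ofFinite A
  simpa using sum_sh A fun _ => (1 : ℕ)

variable [Fact p.Prime] {P : Sylow p G}

theorem isPPart_self [Finite G] {u : G} (hu : u ∈ (P : Subgroup G)) : IsPPart p u u := by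
  obtain ⟨k, hk⟩ := (IsPGroup.iff_orderOf.1 P.isPGroup') ⟨u, hu⟩
  simpa using isPPart_of_commute (Commute.one_right u) ⟨k, by rwa [orderOf_mk] at hk⟩
    (by simpa using (Fact.out : p.Prime).one_lt.ne')

variable [Fintype G]

theorem colsum_zero (hM : IsPModular p M) {T : Finset G} (hT : ∀ u ∈ T, u ∈ (P : Subgroup G))
    (f : G → ℂ) {g w : G} (hg : IsPPart p g w) (hw : ∀ u ∈ T, ¬ IsConj w u) :
    ∑ u ∈ T, f u * ∑ χ ∈ pb M G, (χ : G → ℂ) g * (χ : G → ℂ) u⁻¹ = 0 :=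
  sum_eq_zero fun u hu => by
    rw [sum_mul_inv_eq_zero hM hg (isPPart_self (hT u hu)) (hw u hu), mul_zero]

theorem Hyp.colsum (h : Hyp P) (hM : IsPModular p M) {x : G} (hx : x ∈ Vz p (P : Subgroup G))
    (hx1 : x ≠ 1) {T : Finset G} (hT : ∀ u ∈ T, u ∈ (P : Subgroup G) ∧ u ≠ 1)
    (hT' : ∀ u ∈ T, ∀ u' ∈ (P : Subgroup G), IsConj u u' → u' ∈ T) {f : G → ℂ}
    (hf : IsClassFunction G f) {g w u₀ : G} (hg : IsPPart p g w) (hu₀ : u₀ ∈ T)
    (hw : IsConj w u₀) :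
    ∑ u ∈ T, f u * ∑ χ ∈ pb M G, (χ : G → ℂ) g * (χ : G → ℂ) u⁻¹ =
      f u₀ * ((cl P x).ncard * Nat.card (P : Subgroup G) : ℕ) := by
  classical
  obtain ⟨h1, h2⟩ := hT u₀ hu₀
  have hnc := h.nil.cent P.isPGroup' h1 h2
  have hC : ∀ g, g ∈ centralizer ({u₀} : Set G) ↔ g * u₀ = u₀ * g := fun _ =>
    mem_centralizer_singleton_iff
  rw [← sum_filter_add_sum_filter_not T (IsConj u₀ ·), colsum_zero hM (T := {u ∈ T | ¬ IsConj u₀ u})
    (fun u hu => (hT u (mem_filter.1 hu).1).1) f hg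
    (fun u hu e => (mem_filter.1 hu).2 (hw.symm.trans e)), add_zero, ← h.card_cl h1 h2 hx hx1,
    sum_congr rfl (g := fun _ => f u₀ *
      (p ^ (Nat.card (centralizer ({u₀} : Set G))).factorization p : ℕ)) fun u hu => ?_]
  · rw [sum_const, nsmul_eq_mul, show cl P u₀ = ↑(T.filter (IsConj u₀ ·)) from ?_,
      Set.ncard_coe_finset]
    · push_cast; ring
    · ext u
      rw [h.mem_cl h1, coe_filter]
      exact ⟨fun ⟨h3, h4⟩ => ⟨hT' _ hu₀ _ h3 h4, h4⟩, fun ⟨h3, h4⟩ => ⟨(hT u h3).1, h4⟩⟩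
  · obtain ⟨a, rfl⟩ := isConj_iff.1 (mem_filter.1 hu).2
    rw [hf, ← sum_mul_inv_of_nc hM (isPPart_self h1).exists_orderOf hC hnc]
    congr 1
    exact sum_congr rfl fun χ hχ => by
      rw [apply_eq_of_isPPart hM hC hnc (mem_pb.1 hχ) hg hw, conj_inv, χ.isClassFunction]

theorem Hyp.bessel (h : Hyp P) (hM : IsPModular p M) {x : G} (hx : x ∈ Vz p (P : Subgroup G))
    (hx1 : x ≠ 1) {ψ : IrrCharacter G} (hψ : ψ ∈ pb M G) :
    ∑ u ∈ sh P, ‖(ψ : G → ℂ) u‖ ^ 2 ≤ ((cl P x).ncard * Nat.card (P : Subgroup G) : ℕ) := by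
  set S := ∑ u ∈ sh P, ‖(ψ : G → ℂ) u‖ ^ 2 with hS
  set D := (cl P x).ncard * Nat.card (P : Subgroup G)
  let w : IrrCharacter G → ℂ := fun χ => ∑ u ∈ sh P, conj ((ψ : G → ℂ) u) * (χ : G → ℂ) u
  have h1 : w ψ = S := by
    simp only [w, hS]
    push_cast
    exact sum_congr rfl fun u _ => by rw [Complex.conj_mul']
  have h2 : ((∑ χ ∈ pb M G, ‖w χ‖ ^ 2 : ℝ) : ℂ) = w ψ * D := by
    push_cast
    have h2 : ∀ χ : IrrCharacter G, (‖w χ‖ : ℂ) ^ 2 = ∑ u ∈ sh P, ∑ u' ∈ sh P,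
        conj ((ψ : G → ℂ) u) * ((ψ : G → ℂ) u' * ((χ : G → ℂ) u * (χ : G → ℂ) u'⁻¹)) := fun χ => by
      rw [← Complex.mul_conj']
      simp only [w, map_sum, sum_mul_sum, map_mul, Complex.conj_conj]
      refine sum_congr rfl fun u _ => sum_congr rfl fun u' _ => ?_
      rw [χ.isCharacter.apply_inv]; ring
    rw [sum_congr rfl fun χ _ => h2 χ, sum_comm, sum_mul]
    refine sum_congr rfl fun u hu => ?_
    rw [sum_comm, mul_assoc, ← h.colsum hM hx hx1 (fun _ => mem_sh.1) (fun a ha b hb e =>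
      mem_sh.2 ⟨hb, fun e1 => (mem_sh.1 ha).2 (isConj_one_left.1 (e1 ▸ e))⟩) ψ.isClassFunction
      (isPPart_self (mem_sh.1 hu).1) hu (IsConj.refl u), mul_sum]
    exact sum_congr rfl fun u' _ => by rw [← mul_sum, ← mul_sum]
  have h3 : ‖w ψ‖ ^ 2 ≤ ∑ χ ∈ pb M G, ‖w χ‖ ^ 2 :=
    single_le_sum (f := fun χ => ‖w χ‖ ^ 2) (fun _ _ => sq_nonneg _) hψ
  have hS0 : 0 ≤ S := sum_nonneg fun _ _ => sq_nonneg _
  rw [h1] at h2 h3
  rw [show ∑ χ ∈ pb M G, ‖w χ‖ ^ 2 = S * D by exact_mod_cast h2, Complex.norm_real,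
    Real.norm_of_nonneg hS0] at h3
  rcases hS0.eq_or_lt with e | e
  · rw [← e]; positivity
  · exact le_of_mul_le_mul_left (by rwa [← sq]) e

theorem Hyp.bound (h : Hyp P) (hM : IsPModular p M) {x : G} (hx : x ∈ Vz p (P : Subgroup G))
    (hx1 : x ≠ 1) {ψ : IrrCharacter G} (hψ : ψ ∈ pb M G) (hk : charKer (ψ : G → ℂ) = ⊥) {m : ℕ}
    (hm : (ψ : G → ℂ) 1 + ∑ u ∈ sh (Vz p (P : Subgroup G)), (ψ : G → ℂ) u =
      Nat.card (Vz p (P : Subgroup G)) * m) :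
    Nat.card (Vz p (P : Subgroup G)) * m ^ 2 ≤ charDegree (ψ : G → ℂ) ^ 2 := by
  have := Fintype.ofFinite (P : Subgroup G)
  have := Fintype.ofFinite (Vz p (P : Subgroup G))
  have h1 := lower_bound (inclusion (Vz_le _)) (inclusion_injective _) inclusion_mem_center
    (ψ.isCharacter.restrict P) (m := m) (by rw [← hm, ← sum_sh]; rfl)
    (h.le_ncard ψ.isCharacter (fun e => hx1 (by simpa [hk] using e hx)) hx)
  rw [sum_sh (P : Subgroup G) fun u => ‖(ψ : G → ℂ) u‖ ^ 2, ψ.isCharacter.norm_apply_one] at h1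
  have h2 := h.bessel hM hx hx1 hψ
  push_cast at h2
  exact_mod_cast (by linarith :
    (Nat.card (Vz p (P : Subgroup G)) * m ^ 2 : ℝ) ≤ charDegree (ψ : G → ℂ) ^ 2)

end Cfsg.Agent.GSz
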