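import Mathlib

/-! The numerical contradiction for odd `p`. -/

set_option autoImplicit false

namespace Cfsg.Agent.GSz

open Finset

theorem num {ι : Type*} (B : Finset ι) {o : ι} (ho : o ∈ B) (a m : ι → ℕ) {v e q : ℕ} {β : ℝ}
    (ha : ∀ χ ∈ B, 0 < a χ) (hao : a o = 1) (hmo : m o = 1)
    (hb : ∀ χ ∈ B, χ ≠ o → v * m χ ^ 2 ≤ a χ ^ 2)
    (h1 : ∑ χ ∈ B, ((v : ℝ) * m χ - a χ) * a χ = 0)
    (h2 : ∑ χ ∈ B, ((v : ℝ) * m χ - a χ) ^ 2 = (v - 1) * (e * q))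
    (h3 : ∑ χ ∈ B, ((v : ℝ) * m χ - a χ) ^ 3 / a χ = e * q * ((v - 1) ^ 2 - β))
    (hq : v ∣ q) (hq0 : 0 < q)
    (hc : (β ≤ e * (v - 1) ∧ 3 ≤ e ∧ 2 * e + 1 ≤ v) ∨
      (β ≤ e * (v - 1) / 2 ∧ 2 ≤ e ∧ e + 1 ≤ v ∧ Odd v)) : False := by
  classical
  set s : ι → ℝ := fun χ => (v : ℝ) * m χ - a χ with hs
  have ha' : ∀ χ ∈ B, (0 : ℝ) < a χ := fun χ h => by exact_mod_cast ha χ h
  have h4 : v * ∑ χ ∈ B.erase o, s χ ^ 2 * (1 - m χ / a χ) = e * q * β := by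
    rw [sum_erase _ (by simp [hao, hmo]), mul_sum, sum_congr rfl (g := fun χ =>
      (v - 1) * s χ ^ 2 - s χ ^ 3 / a χ) fun χ h => by
        have := (ha' χ h).ne'
        simp only [hs]; field_simp; ring, sum_sub_distrib, ← mul_sum, h2, h3]
    ring
  have h5 : ∑ χ ∈ B.erase o, s χ ^ 2 = (v - 1) * (e * q - v + 1) := by
    rw [sum_erase_eq_sub ho, h2]; simp only [hs, hao, hmo]; push_cast; ring
  have h6 : ∀ ρ : ℝ, 0 < ρ → 1 ≤ v * ρ ^ 2 →
      v * ((1 - ρ) * ((v - 1) * (e * q - v + 1))) ≤ e * q * β := fun ρ hρ hv => by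
    rw [← h4, ← h5, mul_sum]
    refine mul_le_mul_of_nonneg_left (sum_le_sum fun χ h => ?_) (Nat.cast_nonneg _)
    obtain ⟨hne, h⟩ := mem_erase.1 h
    have h7 : (v : ℝ) * m χ ^ 2 ≤ a χ ^ 2 := by exact_mod_cast hb χ h hne
    have h8 : (m χ : ℝ) ≤ ρ * a χ := by
      have hv0 : (0 : ℝ) < v := by
        by_contra! h0
        nlinarith [sq_nonneg ρ]
      refine le_of_sq_le_sq (le_of_mul_le_mul_left ?_ hv0) (mul_pos hρ (ha' χ h)).le
      nlinarith [sq_nonneg (a χ : ℝ)]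
    rw [mul_comm]
    exact mul_le_mul_of_nonneg_left (by linarith [(div_le_iff₀ (ha' χ h)).2 h8]) (sq_nonneg _)
  have hqv : (v : ℝ) ≤ q := by exact_mod_cast Nat.le_of_dvd hq0 hq
  obtain ⟨δ, hδ⟩ : ∃ δ : ℝ, e * q = e * v + δ := ⟨e * q - e * v, by ring⟩
  have hδ0 : 0 ≤ δ := by nlinarith [(Nat.cast_nonneg e : (0 : ℝ) ≤ e)]
  have hD : (0 : ℝ) ≤ e * q := by positivity
  rcases hc with ⟨hβ, he, hv⟩ | ⟨hβ, he, hv, hodd⟩
  · have he' : (3 : ℝ) ≤ e := by exact_mod_cast he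
    have hv' : 2 * (e : ℝ) + 1 ≤ v := by exact_mod_cast hv
    have h7 := (h6 (19 / 50) (by norm_num) (by nlinarith)).trans (mul_le_mul_of_nonneg_left hβ hD)
    have h8 : v * (31 / 50 * (e * q - v + 1)) ≤ (e * q * e : ℝ) :=
      le_of_mul_le_mul_left (by nlinarith) (by linarith : (0 : ℝ) < v - 1)
    rw [hδ] at h8
    have h9 : 31 / 50 * ((e - 1) * v + 1) ≤ (e * e : ℝ) :=
      le_of_mul_le_mul_left (by nlinarith) (by linarith : (0 : ℝ) < v)
    nlinarith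
  have he' : (2 : ℝ) ≤ e := by exact_mod_cast he
  have hv' : (e : ℝ) + 1 ≤ v := by exact_mod_cast hv
  by_cases hv5 : 5 ≤ v
  · have hv5' : (5 : ℝ) ≤ v := by exact_mod_cast hv5
    have h7 := (h6 (9 / 20) (by norm_num) (by nlinarith)).trans (mul_le_mul_of_nonneg_left hβ hD)
    have h8 : v * (11 / 20 * (e * q - v + 1)) ≤ (e * q * e / 2 : ℝ) :=
      le_of_mul_le_mul_left (by nlinarith) (by linarith : (0 : ℝ) < v - 1)
    rw [hδ] at h8
    have h9 : 11 / 20 * ((e - 1) * v + 1) ≤ (e * e / 2 : ℝ) :=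
      le_of_mul_le_mul_left (by nlinarith) (by linarith : (0 : ℝ) < v)
    nlinarith
  obtain rfl : v = 3 := by obtain ⟨k, hk⟩ := hodd; omega
  obtain rfl : e = 2 := by omega
  push_cast at *
  by_cases hq6 : 6 ≤ q
  · have hq6' : (6 : ℝ) ≤ q := by exact_mod_cast hq6
    have h7 := (h6 (29 / 50) (by norm_num) (by norm_num)).trans (mul_le_mul_of_nonneg_left hβ hD)
    linarith
  obtain rfl : q = 3 := by omega
  norm_num at h4 h5 hβ
  have h7 : ∑ χ ∈ B.erase o, s χ * a χ = -2 := by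
    rw [sum_erase_eq_sub ho]; simp only [hs, hao, hmo, h1]; norm_num
  obtain ⟨ψ, hψ, h8⟩ : ∃ ψ ∈ B.erase o, s ψ < 0 := by
    by_contra! h
    have := sum_nonneg fun χ hχ => mul_nonneg (h χ hχ) (Nat.cast_nonneg (a χ))
    linarith
  have h9 : 0 < ∑ χ ∈ B.erase o, s χ ^ 2 * (1 / 2 - m χ / a χ) := by
    refine sum_pos' (fun χ h => mul_nonneg (sq_nonneg _) ?_) ⟨ψ, hψ, mul_pos (by nlinarith) ?_⟩
    · have h10 := single_le_sum (f := fun χ => s χ ^ 2) (fun _ _ => sq_nonneg _) h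
      obtain ⟨hne, h⟩ := mem_erase.1 h
      rw [sub_nonneg, div_le_iff₀ (ha' χ h)]
      have h11 : s χ < 3 := by rw [h5] at h10; nlinarith
      have h12 : 3 * m χ < a χ + 3 := by
        simp only [hs] at h11
        exact_mod_cast (by linarith : (3 * m χ : ℝ) < a χ + 3)
      have h13 : 2 * m χ ≤ a χ := by
        by_contra! h13
        have h14 := hb χ h hne
        have h15 := ha χ h
        have : a χ ≤ 2 := by omega
        have : m χ = 1 := by omega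
        have : a χ = 1 := by omega
        simp_all
      have : (2 * m χ : ℝ) ≤ a χ := by exact_mod_cast h13
      linarith
    · rw [sub_pos, div_lt_iff₀ (ha' ψ (mem_erase.1 hψ).2)]
      simp only [hs] at h8
      linarith [ha' ψ (mem_erase.1 hψ).2]
  rw [sum_congr rfl (g := fun χ => s χ ^ 2 * (1 - m χ / a χ) - 1 / 2 * s χ ^ 2)
    fun χ _ => by ring, sum_sub_distrib, ← mul_sum, h5] at h9
  nlinarith

end Cfsg.Agent.GSz
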