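import Mathlib
import Cfsg.Agent.GSz.Col
import Cfsg.Agent.GSz.Num
import Cfsg.Agent.Blk.BlockOrth
import Cfsg.Agent.Blk.Local2

/-! The case of odd `p` does not occur. -/

set_option autoImplicit false

namespace Cfsg.Agent.GSz

open Cfsg Cfsg.Agent.GT Cfsg.Agent.GT.Tr Cfsg.Agent.Ch Cfsg.Agent.Blk.PB Subgroup Finset

variable {G : Type*} [Group G] {p : ℕ} [Fact p.Prime] {P : Sylow p G}

omit [Fact p.Prime] in
theorem mem_cl_self (P : Subgroup G) (x : G) : x ∈ cl P x := ⟨1, one_mem _, by simp⟩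

variable [Fintype G]

omit [Fact p.Prime] in
theorem cl_subset {P : Subgroup G} {x : G} (hx : x ∈ sh (Vz p P)) : cl P x ⊆ sh (Vz p P) := by
  rintro _ ⟨n, hn, rfl⟩
  exact mem_sh.2 ⟨Vz_conj hn (mem_sh.1 hx).1, fun e => (mem_sh.1 hx).2 (conj_eq_one_iff.1 e)⟩

omit [Fact p.Prime] in
theorem inv_mem_sh {A : Subgroup G} {x : G} (hx : x ∈ sh A) : x⁻¹ ∈ sh A :=
  mem_sh.2 ⟨inv_mem (mem_sh.1 hx).1, inv_ne_one.2 (mem_sh.1 hx).2⟩

theorem Hyp.ncard_cl (h : Hyp P) {x y : G} (hx : x ∈ sh (Vz p (P : Subgroup G)))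
    (hy : y ∈ sh (Vz p (P : Subgroup G))) : (cl P x).ncard = (cl P y).ncard := by
  obtain ⟨h1, h2⟩ := mem_sh.1 hx
  exact Nat.eq_of_mul_eq_mul_right Nat.card_pos ((h.card_cl h1.1 h2 h1 h2).symm.trans
    (h.card_cl h1.1 h2 (mem_sh.1 hy).1 (mem_sh.1 hy).2))

theorem Hyp.exists_move [IsSimpleGroup G] (h : Hyp P) (hna : ¬ IsMulCommutative G) {x : G}
    (hx : x ∈ sh (Vz p (P : Subgroup G))) :
    ∃ n ∈ normalizer ((P : Subgroup G) : Set G), n * x * n⁻¹ ≠ x := by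
  by_contra! h1
  obtain ⟨h2, h3⟩ := mem_sh.1 hx
  have h4 : HasNormalPComplement p G := hasNormalPComplement_of_controls_fusion P le_normalizer
    ((h.nil.cent P.isPGroup' h2.1 h3).of_le fun n hn =>
      mem_centralizer_singleton_iff.2 (mul_inv_eq_iff_eq_mul.1 (h1 n hn)))
    fun u hu g hg => (h.fus u hu g hg).imp fun _ ha => ⟨ha.1, ha.2.symm⟩
  rcases (inferInstance : (pResidual p G).Normal).eq_bot_or_eq_top with e | e
  · have := (Tr.pResidual_eq_bot_iff.1 e).isNilpotent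
    exact hna ⟨⟨IsSimpleGroup.comm_iff_isSolvable.2 inferInstance⟩⟩
  · exact h3 (eq_one_of_coprime_of_isPGroup P.isPGroup' h2.1
      (h4.mem_pResidual_iff.1 (e ▸ mem_top x)))

theorem Hyp.three_le (h : Hyp P) {x n : G} (hx : x ∈ sh (Vz p (P : Subgroup G)))
    (hn : n ∈ normalizer ((P : Subgroup G) : Set G)) (h1 : n * x * n⁻¹ ≠ x) (h2 : ¬ IsConj x x⁻¹) :
    3 ≤ (cl P x).ncard := by
  obtain ⟨hV, -⟩ := mem_sh.1 hx
  refine (Set.two_lt_ncard (Set.toFinite _)).2 ⟨x, mem_cl_self _ _, _, ⟨n, hn, rfl⟩,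
    _, ⟨n * n, mul_mem hn hn, rfl⟩, h1.symm, fun e => ?_, fun e => h1 ?_⟩
  · have h3 := (Vz_conj hn hV).2.2 x hV.1
    refine h1 (mul_inv_eq_iff_eq_mul.2 (h.fix_Vz hn (mul_mem hV.1 (Vz_conj hn hV).1)
      (fun e1 => h2 (isConj_iff.2 ⟨n, eq_inv_of_mul_eq_one_right e1⟩)) ?_ x hV))
    calc n * (x * (n * x * n⁻¹)) = n * x * n⁻¹ * (n * n * x * (n * n)⁻¹) * n := by group
      _ = _ := by rw [← e, ← h3]
  · calc n * x * n⁻¹ = n⁻¹ * (n * n * x * (n * n)⁻¹) * n := by group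
      _ = x := by rw [← e]; group

open Classical in
/-- The set of `x ∈ V#` with `x y` of order prime to `p`. -/
noncomputable def bad (P : Sylow p G) (y : G) : Finset G :=
  {x ∈ sh (Vz p (P : Subgroup G)) | ¬ p ∣ orderOf (x * y)}

theorem orderOf_of_sh {y : G} (hy : y ∈ sh (Vz p (P : Subgroup G))) (g : G) :
    orderOf (g * y * g⁻¹) = p ∧ SC P (g * y * g⁻¹) :=
  ⟨by rw [← MulAut.conj_apply, MulEquiv.orderOf_eq,
    orderOf_of_mem_Vz (mem_sh.1 hy).1 (mem_sh.1 hy).2], g⁻¹, by simpa [mul_assoc] using (mem_sh.1 hy).1⟩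

theorem Hyp.pair' (h : Hyp P)
    (hc : ∀ x y : G, orderOf x = p → orderOf y = p → IsPSolvable p (closure ({x, y} : Set G)))
    {x y : G} (hx : x ∈ sh (Vz p (P : Subgroup G))) (hy : y ∈ sh (Vz p (P : Subgroup G))) (g : G) :
    (∀ u ∈ closure ({x, g * y * g⁻¹} : Set G), (∃ k, orderOf u = p ^ k) → SC P u) ∧
      (¬ p ∣ orderOf (x * (g * y * g⁻¹)) → IsConj x (g * y * g⁻¹)⁻¹) ∧
      (p ≠ 2 → x ≠ 1 → ¬ p ∣ orderOf (x * (g * y * g⁻¹)) → p ∣ orderOf (x⁻¹ * (g * y * g⁻¹))) :=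
  h.pair (hc _ _ (orderOf_of_mem_Vz (mem_sh.1 hx).1 (mem_sh.1 hx).2) (orderOf_of_sh hy g).1)
    ⟨1, by simpa using (mem_sh.1 hx).1⟩ (orderOf_of_sh hy g).2

theorem Hyp.bad_subset (h : Hyp P)
    (hc : ∀ x y : G, orderOf x = p → orderOf y = p → IsPSolvable p (closure ({x, y} : Set G)))
    {y : G} (hy : y ∈ sh (Vz p (P : Subgroup G))) (g : G) :
    ↑(bad P (g * y * g⁻¹)) ⊆ cl P y⁻¹ := fun x hx => by
  classical
  obtain ⟨h1, h2⟩ := mem_filter.1 (mem_coe.1 hx)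
  refine (h.mem_cl (inv_mem (mem_sh.1 hy).1.1)).2 ⟨(mem_sh.1 h1).1.1, ?_⟩
  exact (isConj_iff.2 ⟨g, conj_inv.symm⟩).trans ((h.pair' hc h1 hy g).2.1 h2).symm

theorem Hyp.two_mul_bad (h : Hyp P) (hp : p ≠ 2)
    (hc : ∀ x y : G, orderOf x = p → orderOf y = p → IsPSolvable p (closure ({x, y} : Set G)))
    (hr : ∀ x ∈ sh (Vz p (P : Subgroup G)), IsConj x x⁻¹)
    {y : G} (hy : y ∈ sh (Vz p (P : Subgroup G))) (g : G) :
    2 * #(bad P (g * y * g⁻¹)) ≤ (cl P y⁻¹).ncard := by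
  classical
  have h1 := h.bad_subset hc hy g
  have hy' := inv_mem (mem_sh.1 hy).1.1
  rw [two_mul, ← Set.ncard_coe_finset]
  nth_rewrite 2 [← Set.ncard_inv]
  rw [← Set.ncard_union_eq (Set.disjoint_left.2 fun x hx hx' => ?_)]
  · refine Set.ncard_le_ncard (Set.union_subset h1 fun x hx => ?_)
    obtain ⟨h2, h3⟩ := (h.mem_cl hy').1 (h1 hx)
    exact (h.mem_cl hy').2 ⟨inv_mem_iff.1 h2,
      h3.trans (by simpa using hr _ (mem_filter.1 (mem_coe.1 hx)).1)⟩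
  · obtain ⟨h2, h3⟩ := mem_filter.1 (mem_coe.1 hx)
    exact (mem_filter.1 (mem_coe.1 hx')).2 ((h.pair' hc h2 hy g).2.2 hp (mem_sh.1 h2).2 h3)

theorem odd [IsSimpleGroup G] (hna : ¬ IsMulCommutative G) (hG : p ∣ Nat.card G) (hp : p ≠ 2)
    (h : Hyp P)
    (hc : ∀ x y : G, orderOf x = p → orderOf y = p → IsPSolvable p (closure ({x, y} : Set G))) :
    False := by
  classical
  have hpp : p.Prime := Fact.out
  obtain ⟨x, hx, -, hx1⟩ := exists_mem_Vz P.isPGroup' (le_normalizer (H := (P : Subgroup G)))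
    (by rw [inf_idem]; exact P.ne_bot_of_dvd_card hG)
  have hxT := mem_sh.2 ⟨hx, hx1⟩
  obtain ⟨M, hM⟩ := Blk.exists_isPModular hpp
  set V := Vz p (P : Subgroup G)
  set T := sh V
  set e := (cl P x).ncard with he
  have hv : (#T : ℝ) = Nat.card V - 1 := by rw [card_sh V]; push_cast; ring
  have hv' : (#T : ℂ) = Nat.card V - 1 := by rw [card_sh V]; push_cast; ring
  have hm : ∀ χ : IrrCharacter G, ∃ m : ℕ, (χ : G → ℂ) 1 + ∑ u ∈ T, (χ : G → ℂ) u =
      Nat.card V * m := fun χ => by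
    obtain ⟨m, hm⟩ := (χ.isCharacter.restrict V).exists_nat_classInner IsCharacter.one
    rw [classInner_one_right, inv_mul_eq_iff_eq_mul₀ (natCard_ne_zero V), sum_sh] at hm
    exact ⟨m, hm⟩
  choose m hm using hm
  set a : IrrCharacter G → ℕ := fun χ => charDegree (χ : G → ℂ) with ha
  have ha' : ∀ χ : IrrCharacter G, (a χ : ℂ) = (χ : G → ℂ) 1 := fun χ => χ.2.coe_charDegree
  have hs : ∀ χ : IrrCharacter G, ∑ u ∈ T, (χ : G → ℂ) u = Nat.card V * m χ - a χ := fun χ => by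
    rw [← hm, ha']; ring
  have hθ : ∀ g, ∑ χ ∈ pb M G, (Nat.card V * m χ - a χ : ℂ) * (χ : G → ℂ) g =
      ∑ u ∈ T, 1 * ∑ χ ∈ pb M G, (χ : G → ℂ) g * (χ : G → ℂ) u⁻¹ := fun g => by
    simp only [one_mul]
    rw [sum_comm]
    refine sum_congr rfl fun χ _ => ?_
    rw [← mul_sum, mul_comm, ← hs]
    congr 1
    exact sum_nbij' (·⁻¹) (·⁻¹) (fun _ => inv_mem_sh) (fun _ => inv_mem_sh) (by simp) (by simp)
      (by simp)
  have hθ0 : ∀ g, ¬ p ∣ orderOf g →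
      ∑ χ ∈ pb M G, (Nat.card V * m χ - a χ : ℂ) * (χ : G → ℂ) g = 0 := fun g hg => by
    rw [hθ]
    exact colsum_zero hM (P := P) (T := T) (fun u hu => (mem_sh.1 hu).1.1) (fun _ => 1) (w := 1)
      ⟨g, one_mul _, Commute.one_left _, ⟨0, by simp⟩, hg⟩
      fun u hu e => (mem_sh.1 hu).2 (isConj_one_right.1 e)
  have hθ1 : ∀ g w, IsPPart p g w → w ≠ 1 → SC P w → ∑ χ ∈ pb M G,
      (Nat.card V * m χ - a χ : ℂ) * (χ : G → ℂ) g = e * Nat.card (P : Subgroup G) :=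
    fun g w hg hw ⟨b, hb⟩ => by
      rw [hθ, h.colsum hM hx hx1 (T := T) (fun u hu => ⟨(mem_sh.1 hu).1.1, (mem_sh.1 hu).2⟩)
        (fun u hu u' h1 h2 => cl_subset hu ((h.mem_cl (mem_sh.1 hu).1.1).2 ⟨h1, h2⟩))
        (IsClassFunction.const 1) hg (mem_sh.2 ⟨hb, fun e => hw (conj_eq_one_iff.1 e)⟩)
        (isConj_iff.2 ⟨b, rfl⟩), one_mul, Nat.cast_mul]
  set Bd : ℕ := ∑ y ∈ T, ∑ g, #(bad P (g * y * g⁻¹)) with hBd
  have hG0 : (0 : ℝ) < Nat.card G := by exact_mod_cast Nat.card_pos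
  refine num (pb M G) (one_mem_pb hM) a m (v := Nat.card V) (e := e) (q := Nat.card P)
    (β := Bd / Nat.card G) (fun χ _ => χ.2.charDegree_pos) charDegree_one ?_
    (fun χ hχ h1 => h.bound hM hx hx1 hχ
      (χ.2.charKer_eq_bot_of_simple fun e => h1 (Subtype.ext e)) (hm χ)) ?_ ?_ ?_
    (card_dvd_of_le (Vz_le _)) Nat.card_pos ?_
  · have := hm (irrOne G)
    simp only [coe_irrOne, sum_const, nsmul_eq_mul, mul_one, hv'] at this
    have h1 : (Nat.card V : ℂ) * m (irrOne G) = Nat.card V * 1 := by rw [← this]; ring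
    exact_mod_cast mul_left_cancel₀ (natCard_ne_zero V) h1
  · have := hθ0 1 (by simpa using hpp.one_lt.ne')
    simp only [← ha'] at this
    exact_mod_cast this
  · have h1 : ∑ χ ∈ pb M G, (Nat.card V * m χ - a χ : ℂ) ^ 2 =
        (Nat.card V - 1) * (e * Nat.card (P : Subgroup G)) := by
      rw [← hv', ← nsmul_eq_mul, ← sum_const, ← sum_congr rfl fun u (hu : u ∈ T) =>
        hθ1 u u (isPPart_self (mem_sh.1 hu).1.1) (mem_sh.1 hu).2 ⟨1, by simpa using (mem_sh.1 hu).1⟩,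
        sum_comm]
      exact sum_congr rfl fun χ _ => by rw [← mul_sum, hs, sq]
    exact_mod_cast h1
  · have h1 : ∀ y ∈ T, ∀ g, ∑ u ∈ T, ∑ χ ∈ pb M G, (Nat.card V * m χ - a χ : ℂ) *
        (χ : G → ℂ) (u * (g * y * g⁻¹)) =
        e * Nat.card (P : Subgroup G) * (#T - #(bad P (g * y * g⁻¹))) := fun y hy g => by
      rw [← sum_filter_add_sum_filter_not T fun u => ¬ p ∣ orderOf (u * (g * y * g⁻¹)),
        sum_eq_zero fun u hu => hθ0 _ (mem_filter.1 hu).2, zero_add,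
        sum_congr rfl (g := fun _ => (e * Nat.card (P : Subgroup G) : ℂ)) fun u hu => ?_,
        ← card_filter_add_card_filter_not (s := T) fun u => ¬ p ∣ orderOf (u * (g * y * g⁻¹))]
      · simp [bad, T, V, mul_comm]
      obtain ⟨h2, h3⟩ := mem_filter.1 hu
      obtain ⟨w, hw⟩ := exists_isPPart hpp (u * (g * y * g⁻¹))
      refine hθ1 _ w hw (fun e => h3 (by simpa [e] using hw.not_dvd_orderOf_inv_mul))
        ((h.pair' hc h2 hy g).1 w (zpowers_le.2 (mul_mem (subset_closure (by simp))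
          (subset_closure (by simp))) (hw.mem_zpowers hpp)) hw.exists_orderOf)
    have h2 : ∀ χ : IrrCharacter G, ∑ y ∈ T, ∑ g, ∑ u ∈ T, (Nat.card V * m χ - a χ : ℂ) *
        (χ : G → ℂ) (u * (g * y * g⁻¹)) = Nat.card G * ((Nat.card V * m χ - a χ) ^ 3 / a χ) :=
      fun χ => by
        have h3 : (a χ : ℂ) ≠ 0 := ha' χ ▸ χ.2.apply_one_ne_zero
        refine mul_left_cancel₀ h3 ?_
        simp only [← mul_sum]
        rw [mul_left_comm, mul_sum, sum_congr rfl (g := fun y => ∑ u ∈ T, Nat.card G *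
          ((χ : G → ℂ) u * (χ : G → ℂ) y)) fun y _ => ?_]
        · simp only [← mul_sum, ← sum_mul, hs]
          field_simp
        · rw [sum_comm, mul_sum]
          refine sum_congr rfl fun u _ => ?_
          rw [← Blk.irr_mul_sum_conj, ha']
          simp only [χ.isClassFunction.mul_comm u]
    have h3 : (Nat.card G : ℂ) * ∑ χ ∈ pb M G, (Nat.card V * m χ - a χ : ℂ) ^ 3 / a χ =
        e * Nat.card (P : Subgroup G) * (Nat.card G * (Nat.card V - 1) ^ 2 - Bd) := by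
      rw [mul_sum, ← sum_congr rfl fun χ _ => h2 χ, sum_comm,
        sum_congr rfl (g := fun y => ∑ g, (e * Nat.card (P : Subgroup G) *
          (#T - #(bad P (g * y * g⁻¹))) : ℂ)) fun y hy => ?_]
      · simp only [← mul_sum, sum_sub_distrib, sum_const, nsmul_eq_mul, hBd, hv', card_univ,
          ← Nat.card_eq_fintype_card]
        push_cast
        ring
      · rw [sum_comm]
        exact sum_congr rfl fun g _ => by rw [sum_comm, h1 y hy]
    have h4 : (Nat.card G : ℝ) * ∑ χ ∈ pb M G, (Nat.card V * m χ - a χ : ℝ) ^ 3 / a χ =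
        e * Nat.card (P : Subgroup G) * (Nat.card G * (Nat.card V - 1) ^ 2 - Bd) := by
      exact_mod_cast h3
    refine mul_left_cancel₀ hG0.ne' ?_
    rw [h4]
    field_simp
  have hBd' : ∀ k : ℕ, (∀ y ∈ T, ∀ g, k * #(bad P (g * y * g⁻¹)) ≤ (cl P y⁻¹).ncard) →
      k * (Bd / Nat.card G : ℝ) ≤ e * (Nat.card V - 1) := fun k hk => by
    have h1 : k * Bd ≤ #T * (Nat.card G * e) := by
      rw [hBd, mul_sum, ← smul_eq_mul, ← sum_const]
      refine sum_le_sum fun y hy => ?_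
      rw [mul_sum, Nat.card_eq_fintype_card, ← card_univ, ← smul_eq_mul, ← sum_const]
      exact sum_le_sum fun g _ => (hk y hy g).trans (h.ncard_cl (inv_mem_sh hy) hxT).le
    rw [← mul_div_assoc, div_le_iff₀ hG0, ← hv]
    have h2 : (k * Bd : ℝ) ≤ #T * (Nat.card G * e) := by exact_mod_cast h1
    linarith
  by_cases hr : ∀ x ∈ T, IsConj x x⁻¹
  · obtain ⟨n, hn, h1⟩ := h.exists_move hna hxT
    refine Or.inr ⟨?_, (Set.one_lt_ncard (Set.toFinite _)).2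
      ⟨_, ⟨n, hn, rfl⟩, x, mem_cl_self _ _, h1⟩, ?_, ?_⟩
    · have := hBd' 2 fun y hy g => h.two_mul_bad hp hc hr hy g
      push_cast at this
      linarith
    · have := Set.ncard_le_ncard (cl_subset hxT)
      rw [Set.ncard_coe_finset] at this
      exact card_sh V ▸ add_comm e 1 ▸ Nat.add_le_add_left this 1
    · obtain ⟨k, hk⟩ := IsPGroup.iff_card.1 (P.isPGroup'.to_le (Vz_le (p := p) _))
      rw [hk]
      exact (hpp.odd_of_ne_two hp).pow
  push Not at hr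
  obtain ⟨y, hy, hr⟩ := hr
  obtain ⟨n, hn, h1⟩ := h.exists_move hna hy
  refine Or.inl ⟨?_, he ▸ h.ncard_cl hy hxT ▸ h.three_le hy hn h1 hr, ?_⟩
  · simpa using hBd' 1 fun y hy g => by
      rw [one_mul, ← Set.ncard_coe_finset]
      exact Set.ncard_le_ncard (h.bad_subset hc hy g)
  · have := Set.ncard_le_ncard (Set.union_subset (cl_subset hy) (cl_subset (inv_mem_sh hy)))
    rw [Set.ncard_coe_finset, Set.ncard_union_eq (Set.disjoint_left.2 fun w h2 h3 =>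
      hr (((h.mem_cl (mem_sh.1 hy).1.1).1 h2).2.trans
        ((h.mem_cl (inv_mem (mem_sh.1 hy).1.1)).1 h3).2.symm)), h.ncard_cl hy hxT,
      h.ncard_cl (inv_mem_sh hy) hxT] at this
    exact card_sh V ▸ add_comm (2 * e) 1 ▸ Nat.add_le_add_left (two_mul e ▸ this) 1

end Cfsg.Agent.GSz
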